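import Cfsg.Agent.ExtremeAffine.FixedSpace
import Cfsg.Agent.PrimTypes.Basic

/-!
A minimal normal subgroup of a linear group with maximal vector stabilisers has a single simple factor.
-/

set_option autoImplicit false
set_option linter.unusedSectionVars false

namespace Cfsg.Lib.ExtremeAffine

open Subgroup MulAction

universe u v

variable {H : Type u} [Group H] [Finite H] {V : Type v} [AddCommGroup V] [DistribMulAction H V]

/-- An element keeping the fixed points of `a` is closed under powers. -/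
theorem pres_pow {a g : H} (h : ∀ v : V, a • v = v → a • g • v = g • v) (i : ℕ) :
    ∀ v : V, a • v = v → a • g ^ i • v = g ^ i • v := by
  induction i with
  | zero => intro v hv; rw [pow_zero, one_smul, hv]
  | succ i ih => intro v hv; rw [pow_succ', mul_smul]; exact h _ (ih v hv)

theorem pres_mul {a g g' : H} (h : ∀ v : V, a • v = v → a • g • v = g • v)
    (h' : ∀ v : V, a • v = v → a • g' • v = g' • v) :
    ∀ v : V, a • v = v → a • (g * g') • v = (g * g') • v := fun v hv => by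
  rw [mul_smul]; exact h _ (h' v hv)

theorem pres_of_commute {a g : H} (h : Commute a g) : ∀ v : V, a • v = v → a • g • v = g • v := fun v hv => by
  rw [← mul_smul, h.eq, mul_smul, hv]

theorem smul_orbit_sum {y : H} {x : V} {r : ℕ} (h : y ^ r • x = x) :
    y • ∑ j ∈ Finset.range r, y ^ j • x = ∑ j ∈ Finset.range r, y ^ j • x := by
  have h1 := Finset.sum_range_succ' (fun j => y ^ j • x) r
  have h2 := Finset.sum_range_succ (fun j => y ^ j • x) r
  rw [pow_zero, one_smul] at h1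
  rw [h] at h2
  rw [Finset.smul_sum]
  simp only [← mul_smul, ← pow_succ']
  exact add_right_cancel (h1.symm.trans h2)

theorem odd_nsmul (h2 : ∀ v : V, v + v = 0) {r : ℕ} (hr : Odd r) (x : V) : r • x = x := by
  obtain ⟨k, rfl⟩ := hr
  rw [add_smul, one_smul, mul_comm, mul_smul, two_nsmul, h2, smul_zero, zero_add]

theorem mem_of_pow_coprime {K : Subgroup H} {y : H} {i r : ℕ} (hc : i.Coprime r) (hi : y ^ i ∈ K)
    (hr : y ^ r ∈ K) : y ∈ K := by
  have h := Int.gcd_eq_gcd_ab (i : ℤ) (r : ℤ)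
  rw [Int.gcd_natCast_natCast, hc.gcd_eq_one, Nat.cast_one] at h
  rw [← zpow_one y, h, zpow_add, zpow_mul, zpow_mul, zpow_natCast, zpow_natCast]
  exact mul_mem (K.zpow_mem hi _) (K.zpow_mem hr _)

variable [Finite V]

/-- The case of several simple factors is impossible. -/
theorem false_of_factor (hfaith : ∀ h : H, (∀ v : V, h • v = v) → h = 1) (h2 : ∀ v : V, v + v = 0)
    (irr : ∀ X : AddSubgroup V, (∀ h : H, ∀ x ∈ X, h • x ∈ X) → X = ⊥ ∨ X = ⊤)
    (hmax : ∀ v : V, v ≠ 0 → ∀ X : Subgroup H, stabilizer H v ≤ X → ∀ x ∈ X, x • v ≠ v → X = ⊤)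
    {R S : Subgroup H} (hR : R.Normal) (hRmin : ∀ K : Subgroup H, K.Normal → K ≤ R → K = ⊥ ∨ K = R)
    (hRtop : ∀ v : V, v ≠ 0 → R ⊔ stabilizer H v = ⊤)
    (hSR : S ≤ R) (hS : IsSimpleGroup S) (hna : ¬ IsMulCommutative S) (hSn : R ≤ normalizer (S : Set H))
    (hsup : R ≤ S ⊔ (R ⊓ centralizer (S : Set H)))
    (hfam : ∀ K : Subgroup H, K ≤ S → K ≠ ⊥ → R ≤ normalizer (K : Set H) → K = S)
    (hconj : ∀ g : H, S.map (MulAut.conj g).toMonoidHom = S ∨
      S.map (MulAut.conj g).toMonoidHom ≤ R ⊓ centralizer (S : Set H))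
    {h0 : H} (hne : S.map (MulAut.conj h0).toMonoidHom ≠ S) : False := by
  classical
  haveI := hR
  haveI := hS
  obtain ⟨s₀, hs₀, n₁, hn₁, v₀, hv₀, hnv₀⟩ := exists_moving (T := S) (V := V) hna
    (fun t ht => Subtype.ext (hfaith _ ht)) h2
  -- an element of prime order on the fixed space
  set s : H := (s₀ : H) with hsdef
  set n₀ : H := (n₁ : H) with hn₀def
  have hn₀ : ∀ v : V, s • v = v → s • n₀ • v = n₀ • v := hn₁
  have hv₀' : s • v₀ = v₀ := hv₀
  have hnv₀' : n₀ • v₀ ≠ v₀ := hnv₀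
  have hex : ∃ k : ℕ, 0 < k ∧ ∀ v : V, s • v = v → n₀ ^ k • v = v :=
    ⟨orderOf n₀, orderOf_pos n₀, fun v _ => by rw [pow_orderOf_eq_one, one_smul]⟩
  obtain ⟨he0, he⟩ := Nat.find_spec hex
  have he1 : Nat.find hex ≠ 1 := fun h => hnv₀' (by simpa [h] using he v₀ hv₀')
  set e := Nat.find hex with hedef
  set r := e.minFac with hrdef
  have hrp : r.Prime := Nat.minFac_prime he1
  have hre : r ∣ e := Nat.minFac_dvd e
  set n : H := n₀ ^ (e / r) with hndef
  have hnS : n ∈ S := pow_mem n₁.2 _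
  have hsS : s ∈ S := s₀.2
  have hnr : ∀ v : V, s • v = v → n ^ r • v = v := fun v hv => by
    rw [hndef, ← pow_mul, Nat.div_mul_cancel hre]; exact he v hv
  obtain ⟨v₁, hv₁, hnv₁⟩ : ∃ v : V, s • v = v ∧ n • v ≠ v := by
    by_contra hall
    push Not at hall
    have hlt : e / r < e := Nat.div_lt_self he0 hrp.one_lt
    exact Nat.find_min hex hlt ⟨Nat.div_pos (Nat.le_of_dvd he0 hre) hrp.pos, hall⟩
  have hnF : ∀ v : V, s • v = v → s • n • v = n • v := pres_pow hn₀ _
  clear_value n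
  clear hndef
  -- the second factor
  set φ := (MulAut.conj h0).toMonoidHom with hφ
  set S2 := S.map φ with hS2
  set C := R ⊓ centralizer (S2 : Set H) with hC
  have hS2R : S2 ≤ R ⊓ centralizer (S : Set H) := (hconj h0).resolve_left hne
  have hcomm : ∀ a ∈ S, ∀ b ∈ S2, Commute a b := fun a ha b hb =>
    mem_centralizer_iff.1 (hS2R hb).2 a ha
  have hRS2 : R ≤ S2 ⊔ C := by
    intro x hx
    have hx' : h0⁻¹ * x * h0 ∈ S ⊔ (R ⊓ centralizer (S : Set H)) :=
      hsup (by simpa using hR.conj_mem x hx h0⁻¹)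
    have h : (R ⊓ centralizer (S : Set H)).map φ ≤ C := by
      rintro _ ⟨c, hc, rfl⟩
      refine ⟨hR.conj_mem c hc.1 h0, mem_centralizer_iff.2 ?_⟩
      rintro _ ⟨a, ha, rfl⟩
      rw [← map_mul, ← map_mul, mem_centralizer_iff.1 hc.2 a ha]
    have h' : φ (h0⁻¹ * x * h0) ∈ (S ⊔ (R ⊓ centralizer (S : Set H))).map φ := mem_map_of_mem φ hx'
    rw [Subgroup.map_sup] at h'
    have h'' := sup_le_sup_left h (S.map φ) h'
    have hval : φ (h0⁻¹ * x * h0) = x := by
      show h0 * (h0⁻¹ * x * h0) * h0⁻¹ = x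
      group
    rwa [hval] at h''
  set s' := h0 * s * h0⁻¹ with hs'
  set n' := h0 * n * h0⁻¹ with hn'
  have hs'2 : s' ∈ S2 := ⟨s, hsS, rfl⟩
  have hn'2 : n' ∈ S2 := ⟨n, hnS, rfl⟩
  have hF2 : ∀ v : V, s' • v = v ↔ s • h0⁻¹ • v = h0⁻¹ • v := fun v => by
    rw [hs', mul_smul, mul_smul, eq_inv_smul_iff]
  have hn'F2 : ∀ v : V, s' • v = v → s' • n' • v = n' • v := fun v hv => by
    rw [hF2, hn', mul_smul, mul_smul, inv_smul_smul]
    exact hnF _ ((hF2 v).1 hv)
  have hn'r : ∀ v : V, s' • v = v → n' ^ r • v = v := fun v hv => by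
    rw [hn', conj_pow, mul_smul, mul_smul, hnr _ ((hF2 v).1 hv), smul_inv_smul]
  have hv₂ : s' • h0 • v₁ = h0 • v₁ ∧ n' • h0 • v₁ ≠ h0 • v₁ := by
    refine ⟨(hF2 _).2 (by rw [inv_smul_smul, hv₁]), fun h => hnv₁ ?_⟩
    rwa [hn', mul_smul, mul_smul, inv_smul_smul, smul_left_cancel_iff] at h
  clear_value s' n'
  -- invariant subgroups
  have hRirr : ∀ X : AddSubgroup V, (∀ k ∈ R, ∀ x ∈ X, k • x ∈ X) → X ≠ ⊥ → X = ⊤ := by
    intro X hX hX0
    obtain ⟨x, hx, hx0⟩ := X.bot_or_exists_ne_zero.resolve_left hX0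
    let Y : AddSubgroup V :=
      { carrier := {y | ∀ h : H, h • y ∈ X}
        zero_mem' := fun h => by rw [smul_zero]; exact X.zero_mem
        add_mem' := fun ha hb h => by rw [smul_add]; exact X.add_mem (ha h) (hb h)
        neg_mem' := fun ha h => by rw [smul_neg]; exact X.neg_mem (ha h) }
    have hxY : x ∈ Y := fun h => by
      obtain ⟨k, hk, t, ht, rfl⟩ : ∃ k ∈ R, ∃ t ∈ stabilizer H x, k * t = h := by
        have h' : h ∈ ((R ⊔ stabilizer H x : Subgroup H) : Set H) := by rw [hRtop x hx0]; trivial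
        rw [Subgroup.normal_mul] at h'
        exact Set.mem_mul.1 h'
      rw [mul_smul, mem_stabilizer_iff.1 ht]
      exact hX k hk x hx
    rcases irr Y (fun h y hy k => by rw [← mul_smul]; exact hy _) with e' | e'
    · rw [e'] at hxY
      exact absurd ((AddSubgroup.mem_bot).1 hxY) hx0
    · rw [eq_top_iff]
      intro y _
      have := (e' ▸ AddSubgroup.mem_top y : y ∈ Y) 1
      rwa [one_smul] at this
  let Inv : AddSubgroup V → Prop := fun X => ∀ k ∈ S2, ∀ x ∈ X, k • x ∈ X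
  have hInvSup : ∀ X Y, Inv X → Inv Y → Inv (X ⊔ Y) := by
    intro X Y hX hY k hk x hx
    obtain ⟨y, hy, z, hz, rfl⟩ := AddSubgroup.mem_sup.1 hx
    rw [smul_add]
    exact AddSubgroup.mem_sup.2 ⟨_, hX k hk y hy, _, hY k hk z hz, rfl⟩
  have hCcomm : ∀ c ∈ C, ∀ k ∈ S2, ∀ w : V, k • c • w = c • k • w := fun c hc k hk w => by
    rw [← mul_smul, ← mul_smul, mem_centralizer_iff.1 hc.2 k hk]
  -- translates of an invariant subgroup generate
  have htr : ∀ W : AddSubgroup V, Inv W → W ≠ ⊥ → ∀ Y : AddSubgroup V,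
      (∀ c ∈ C, ∀ w ∈ W, c • w ∈ Y) → Y = ⊤ := by
    intro W hW hW0 Y hY
    set G0 : Set V := {x | ∃ c ∈ C, ∃ w ∈ W, c • w = x} with hG0
    set U := AddSubgroup.closure G0 with hU
    let K : Subgroup H :=
      { carrier := {k | ∀ x : V, k • x ∈ U ↔ x ∈ U}
        one_mem' := fun x => by rw [one_smul]
        mul_mem' := fun {a b} ha hb x => by rw [mul_smul, ha, hb]
        inv_mem' := fun {a} ha x => by rw [← ha (a⁻¹ • x), smul_inv_smul] }
    have hgen : ∀ k ∈ S2 ⊔ C, k ∈ K := by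
      have one : ∀ (L : Subgroup H), (∀ k ∈ L, ∀ x ∈ G0, k • x ∈ G0) → L ≤ K := by
        intro L hL
        have hsub : ∀ k ∈ L, ∀ x ∈ U, k • x ∈ U := by
          intro k hk x hx
          induction hx using AddSubgroup.closure_induction with
          | mem x hx => exact AddSubgroup.subset_closure (hL k hk x hx)
          | zero => rw [smul_zero]; exact zero_mem _
          | add x y _ _ hx hy => rw [smul_add]; exact add_mem hx hy
          | neg x _ hx => rw [smul_neg]; exact neg_mem hx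
        intro k hk x
        refine ⟨fun h => ?_, hsub k hk x⟩
        have := hsub k⁻¹ (inv_mem hk) _ h
        rwa [inv_smul_smul] at this
      refine fun k hk => (sup_le (one S2 ?_) (one C ?_)) hk
      · rintro k hk _ ⟨c, hc, w, hw, rfl⟩
        exact ⟨c, hc, k • w, hW k hk w hw, (hCcomm c hc k hk w).symm⟩
      · rintro k hk _ ⟨c, hc, w, hw, rfl⟩
        exact ⟨k * c, mul_mem hk hc, w, hw, mul_smul k c w⟩
    have hUtop : U = ⊤ := by
      refine hRirr U (fun k hk x hx => (hgen k (hRS2 hk) x).2 hx) fun hU0 => hW0 ?_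
      rw [eq_bot_iff]
      intro w hw
      rw [AddSubgroup.mem_bot]
      have : w ∈ U := AddSubgroup.subset_closure ⟨1, one_mem C, w, hw, one_smul H w⟩
      rwa [hU0, AddSubgroup.mem_bot] at this
    rw [eq_top_iff, ← hUtop, hU, AddSubgroup.closure_le]
    rintro _ ⟨c, hc, w, hw, rfl⟩
    exact hY c hc w hw
  have hminW : ∀ X : AddSubgroup V, Inv X → X ≠ ⊥ → ∃ W, Inv W ∧ W ≠ ⊥ ∧ W ≤ X ∧
      ∀ Z, Inv Z → ∀ c ∈ C, (∀ w ∈ W, c • w ∈ Z) ∨ (∀ w ∈ W, c • w ∈ Z → w = 0) := by
    intro X hX hX0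
    obtain ⟨W, hWmin⟩ := (Set.toFinite {W : AddSubgroup V | Inv W ∧ W ≠ ⊥ ∧ W ≤ X}).exists_minimal
      ⟨X, hX, hX0, le_rfl⟩
    obtain ⟨hW, hW0, hWX⟩ := hWmin.prop
    refine ⟨W, hW, hW0, hWX, fun Z hZ c hc => ?_⟩
    let W' : AddSubgroup V :=
      { carrier := {w | w ∈ W ∧ c • w ∈ Z}
        zero_mem' := ⟨zero_mem W, by rw [smul_zero]; exact zero_mem Z⟩
        add_mem' := fun ha hb => ⟨add_mem ha.1 hb.1, by rw [smul_add]; exact add_mem ha.2 hb.2⟩
        neg_mem' := fun ha => ⟨neg_mem ha.1, by rw [smul_neg]; exact neg_mem ha.2⟩ }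
    by_cases h : W' = ⊥
    · exact Or.inr fun w hw hwZ => AddSubgroup.mem_bot.1 (h ▸ (⟨hw, hwZ⟩ : w ∈ W'))
    · refine Or.inl fun w hw => ?_
      have hW'le : W' ≤ W := fun x hx => hx.1
      have hWW' : W ≤ W' := hWmin.le_of_le ⟨fun k hk x hx => ⟨hW k hk x hx.1, by
        rw [← hCcomm c hc k hk]; exact hZ k hk _ hx.2⟩, h, hW'le.trans hWX⟩ hW'le
      exact (hWW' hw).2
  have hmapInv : ∀ W, Inv W → ∀ c ∈ C, Inv (W.map (DistribMulAction.toAddMonoidHom V c)) := by
    rintro W hW c hc k hk _ ⟨w, hw, rfl⟩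
    exact ⟨k • w, hW k hk w hw, (hCcomm c hc k hk w).symm⟩
  -- property of subgroups on which `n'` is trivial on fixed points of `s'`
  have hclaim : ∀ X : AddSubgroup V, Inv X → X ≠ ⊥ → ∃ x ∈ X, s' • x = x ∧ n' • x ≠ x := by
    intro X hX hX0
    by_contra hno
    push Not at hno
    obtain ⟨W, hW, hW0, hWX, hdich⟩ := hminW X hX hX0
    obtain ⟨Y, hYmax⟩ := (Set.toFinite
      {Y : AddSubgroup V | Inv Y ∧ ∀ y ∈ Y, s' • y = y → n' • y = y}).exists_maximal
      ⟨⊥, fun k _ x hx => by rw [AddSubgroup.mem_bot.1 hx, smul_zero]; exact zero_mem _,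
        fun y hy _ => by rw [AddSubgroup.mem_bot.1 hy, smul_zero]⟩
    obtain ⟨hY, hYP⟩ := hYmax.prop
    have hYtop : Y = ⊤ := by
      refine htr W hW hW0 Y fun c hc => (hdich Y hY c hc).resolve_right fun hdis => ?_
      set cW := W.map (DistribMulAction.toAddMonoidHom V c) with hcW
      have hbig : Inv (Y ⊔ cW) ∧ ∀ y ∈ Y ⊔ cW, s' • y = y → n' • y = y := by
        refine ⟨hInvSup _ _ hY (hmapInv W hW c hc), ?_⟩
        intro y hy hfy
        obtain ⟨a, ha, _, ⟨w, hw, rfl⟩, rfl⟩ := AddSubgroup.mem_sup.1 hy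
        rw [DistribMulAction.toAddMonoidHom_apply] at hfy ⊢
        rw [smul_add, hCcomm c hc s' hs'2] at hfy
        have hmem : c • (s' • w - w) ∈ Y := by
          rw [smul_sub, show c • s' • w - c • w = a - s' • a by
            rw [sub_eq_sub_iff_add_eq_add, add_comm (c • s' • w), hfy]]
          exact sub_mem ha (hY s' hs'2 a ha)
        have hw0 : s' • w = w := sub_eq_zero.1 (hdis _ (sub_mem (hW s' hs'2 w hw) hw) hmem)
        rw [hw0, add_left_inj] at hfy
        rw [smul_add, hYP a ha hfy, hCcomm c hc n' hn'2, hno w (hWX hw) hw0]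
      obtain ⟨w, hw, hw0⟩ := W.bot_or_exists_ne_zero.resolve_left hW0
      exact hw0 (hdis w hw (hYmax.le_of_ge hbig le_sup_left
        (AddSubgroup.mem_sup_right ⟨w, hw, rfl⟩)))
    exact hv₂.2 (hYP _ (hYtop ▸ AddSubgroup.mem_top _) hv₂.1)
  have hcompl : ∀ X : AddSubgroup V, Inv X →
      ∃ Y, Inv Y ∧ (∀ x ∈ X, x ∈ Y → x = 0) ∧ X ⊔ Y = ⊤ := by
    intro X hX
    obtain ⟨Y, hYmax⟩ := (Set.toFinite
      {Y : AddSubgroup V | Inv Y ∧ ∀ x ∈ X, x ∈ Y → x = 0}).exists_maximal
      ⟨⊥, fun k _ x hx => by rw [AddSubgroup.mem_bot.1 hx, smul_zero]; exact zero_mem _,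
        fun x _ hx => AddSubgroup.mem_bot.1 hx⟩
    obtain ⟨hY, hYX⟩ := hYmax.prop
    refine ⟨Y, hY, hYX, ?_⟩
    have htop0 : (⊤ : AddSubgroup V) ≠ ⊥ := fun h => hnv₁ (by
      have hall : ∀ y : V, y = 0 := fun y => AddSubgroup.mem_bot.1 (h ▸ AddSubgroup.mem_top y)
      rw [hall v₁, smul_zero])
    obtain ⟨W, hW, hW0, -, hdich⟩ := hminW ⊤ (fun _ _ _ _ => AddSubgroup.mem_top _) htop0
    refine htr W hW hW0 _ fun c hc => (hdich _ (hInvSup X Y hX hY) c hc).resolve_right fun hdis => ?_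
    set cW := W.map (DistribMulAction.toAddMonoidHom V c) with hcW
    have hbig : Inv (Y ⊔ cW) ∧ ∀ x ∈ X, x ∈ Y ⊔ cW → x = 0 := by
      refine ⟨hInvSup _ _ hY (hmapInv W hW c hc), fun x hx hxs => ?_⟩
      obtain ⟨a, ha, _, ⟨w, hw, rfl⟩, rfl⟩ := AddSubgroup.mem_sup.1 hxs
      rw [DistribMulAction.toAddMonoidHom_apply] at hx ⊢
      have hw0 : w = 0 := hdis w hw (by
        rw [show c • w = (a + c • w) + (-a) by abel]
        exact AddSubgroup.mem_sup.2 ⟨_, hx, _, neg_mem ha, rfl⟩)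
      subst hw0
      rw [smul_zero, add_zero] at hx ⊢
      exact hYX a hx ha
    obtain ⟨w, hw, hw0⟩ := W.bot_or_exists_ne_zero.resolve_left hW0
    exact hw0 (hdis w hw (AddSubgroup.mem_sup_right (hYmax.le_of_ge hbig le_sup_left
      (AddSubgroup.mem_sup_right ⟨w, hw, rfl⟩))))
  -- a vector in the complement of the fixed space of `n`
  let K : AddSubgroup V :=
    { carrier := {y | s • y = y ∧ n • y = y}
      zero_mem' := ⟨smul_zero s, smul_zero n⟩
      add_mem' := fun ha hb => ⟨by rw [smul_add, ha.1, hb.1], by rw [smul_add, ha.2, hb.2]⟩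
      neg_mem' := fun ha => ⟨by rw [smul_neg, ha.1], by rw [smul_neg, ha.2]⟩ }
  have hKinv : Inv K := fun k hk y hy =>
    ⟨pres_of_commute (hcomm s hsS k hk) y hy.1, pres_of_commute (hcomm n hnS k hk) y hy.2⟩
  obtain ⟨Y, hY, hKY, hKYtop⟩ := hcompl K hKinv
  let C0 : AddSubgroup V :=
    { carrier := {y | y ∈ Y ∧ s • y = y}
      zero_mem' := ⟨zero_mem Y, smul_zero s⟩
      add_mem' := fun ha hb => ⟨add_mem ha.1 hb.1, by rw [smul_add, ha.2, hb.2]⟩
      neg_mem' := fun ha => ⟨neg_mem ha.1, by rw [smul_neg, ha.2]⟩ }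
  have hC0inv : Inv C0 := fun k hk y hy => ⟨hY k hk y hy.1, pres_of_commute (hcomm s hsS k hk) y hy.2⟩
  have hC00 : C0 ≠ ⊥ := by
    intro h
    obtain ⟨a, ha, b, hb, hab⟩ := AddSubgroup.mem_sup.1 (hKYtop ▸ AddSubgroup.mem_top v₁ : v₁ ∈ K ⊔ Y)
    have hbs : s • b = b := by
      have := hv₁
      rwa [← hab, smul_add, ha.1, add_right_inj] at this
    have hb0 : b ∈ C0 := ⟨hb, hbs⟩
    rw [h, AddSubgroup.mem_bot] at hb0
    subst hb0
    rw [add_zero] at hab
    exact hnv₁ (hab ▸ ha.2)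
  obtain ⟨x, hxC, hxs', hxn'⟩ := hclaim C0 hC0inv hC00
  obtain ⟨hxY, hxs⟩ := hxC
  set d := n' • x + x with hd
  have hdne : n • d ≠ d := by
    intro h
    have hd0 : d = 0 := hKY d ⟨by rw [hd, smul_add, pres_of_commute (hcomm s hsS n' hn'2) x hxs, hxs], h⟩
      (add_mem (hY n' hn'2 x hxY) hxY)
    refine hxn' ?_
    calc n' • x = n' • x + (x + x) := by rw [h2, add_zero]
      _ = x := by rw [← add_assoc, ← hd, hd0, zero_add]
  have hcn : ∀ (i j : ℕ), Commute (n ^ i) (n' ^ j) := fun i j => (hcomm n hnS n' hn'2).pow_pow i j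
  -- a vector fixed by some `n * n' ^ j` and moved by `n`
  obtain ⟨v, j, hvs, hgv, hnv⟩ : ∃ v : V, ∃ j : ℕ, s • v = v ∧ (n * n' ^ j) • v = v ∧ n • v ≠ v := by
    rcases hrp.eq_two_or_odd' with hr2 | hodd
    · have hn2 : n • n • x = x := by
        have := hnr x hxs
        rwa [hr2, pow_two, mul_smul] at this
      have hn'2' : n' • n' • x = x := by
        have := hn'r x hxs'
        rwa [hr2, pow_two, mul_smul] at this
      have hsw : ∀ y : V, n • n' • y = n' • n • y := fun y => by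
        rw [← mul_smul, ← mul_smul, (hcomm n hnS n' hn'2).eq]
      have hnn : n • n • n' • x = n' • x := by
        have := hnr _ (pres_of_commute (hcomm s hsS n' hn'2) x hxs)
        rwa [hr2, pow_two, mul_smul] at this
      refine ⟨x + n • n' • x, 1, ?_, ?_, fun h => hdne ?_⟩
      · rw [smul_add, hxs, hnF _ (pres_of_commute (hcomm s hsS n' hn'2) x hxs)]
      · rw [pow_one, mul_smul, smul_add, smul_add, hsw (n • n' • x), hnn, hn'2', add_comm]
      · rw [smul_add, hnn] at h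
        calc n • d = n • n' • x + n • x + (n' • x + n' • x) := by rw [h2, add_zero, hd, smul_add]
          _ = (n • x + n' • x) + (n • n' • x + n' • x) := by abel
          _ = (x + n • n' • x) + (n • n' • x + n' • x) := by rw [h]
          _ = (n • n' • x + n • n' • x) + (n' • x + x) := by abel
          _ = d := by rw [h2, zero_add]
    · by_contra hall
      push Not at hall
      set w : ℕ → V := fun j => ∑ i ∈ Finset.range r, (n * n' ^ j) ^ i • x with hw
      have hwfix : ∀ j, n • w j = w j := by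
        intro j
        refine hall (w j) j ?_ (smul_orbit_sum ?_)
        · rw [hw, Finset.smul_sum]
          exact Finset.sum_congr rfl fun i _ =>
            pres_pow (pres_mul hnF (pres_of_commute ((hcomm s hsS n' hn'2).pow_right j))) i x hxs
        · rw [(show Commute n (n' ^ j) from by simpa using hcn 1 j).mul_pow, mul_smul,
            ← pow_mul, mul_comm j r, pow_mul]
          rw [show (n' ^ r) ^ j • x = x from mem_stabilizer_iff.1
            (pow_mem (mem_stabilizer_iff.2 (hn'r x hxs')) j)]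
          exact hnr x hxs
      set e' : ℕ → V := fun i => ∑ j ∈ Finset.range r, (n' ^ i) ^ j • x with he'
      have he'fix : ∀ i ∈ Finset.range r, i ≠ 0 → n' • e' i = e' i := by
        intro i hi hi0
        refine mem_stabilizer_iff.1 (mem_of_pow_coprime (K := stabilizer H (e' i)) (i := i) (r := r) ?_ ?_ ?_)
        · exact ((hrp.coprime_iff_not_dvd).2 fun hdvd =>
            hi0 (Nat.eq_zero_of_dvd_of_lt hdvd (Finset.mem_range.1 hi))).symm
        · refine mem_stabilizer_iff.2 (smul_orbit_sum ?_)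
          rw [← pow_mul, mul_comm, pow_mul]
          exact mem_stabilizer_iff.1 (pow_mem (mem_stabilizer_iff.2 (hn'r x hxs')) i)
        · refine mem_stabilizer_iff.2 ?_
          rw [he', Finset.smul_sum]
          refine Finset.sum_congr rfl fun k _ => ?_
          rw [← mul_smul, ← pow_mul, (Commute.pow_pow_self n' r (i * k)).eq, mul_smul, hn'r x hxs']
      set tot := ∑ j ∈ Finset.range r, w j with htot
      have htot' : tot = ∑ i ∈ Finset.range r, n ^ i • e' i := by
        rw [htot, hw, Finset.sum_comm]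
        refine Finset.sum_congr rfl fun i _ => ?_
        rw [he', Finset.smul_sum]
        refine Finset.sum_congr rfl fun k _ => ?_
        rw [(show Commute n (n' ^ k) from by simpa using hcn 1 k).mul_pow, mul_smul, ← pow_mul, ← pow_mul,
          mul_comm k i]
      have htotfix : n • tot = tot := by
        rw [htot, Finset.smul_sum]
        exact Finset.sum_congr rfl fun k _ => hwfix k
      have hdd : n' • tot + tot = d := by
        rw [htot', Finset.smul_sum, ← Finset.sum_add_distrib, Finset.sum_eq_single 0]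
        · have : e' 0 = x := by
            simp only [he', pow_zero, one_pow, one_smul, Finset.sum_const, Finset.card_range]
            exact odd_nsmul h2 hodd x
          rw [pow_zero, one_smul, this]
        · intro i hi hi0
          have hc : n' • n ^ i • e' i = n ^ i • n' • e' i := by
            rw [← mul_smul, ← mul_smul, (show Commute (n ^ i) n' from by simpa using hcn i 1).eq]
          rw [hc, he'fix i hi hi0, h2]
        · intro h0'
          exact absurd (Finset.mem_range.2 hrp.pos) h0'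
      refine hdne ?_
      have hsw : n • n' • tot = n' • n • tot := by
        rw [← mul_smul, ← mul_smul, (hcomm n hnS n' hn'2).eq]
      rw [← hdd, smul_add, hsw, htotfix]
  -- the stabiliser of `v` would contain `n`
  have hv0 : v ≠ 0 := fun h => hnv (by rw [h, smul_zero])
  set g := n * n' ^ j with hg
  have hgR : g ∈ R := mul_mem (hSR hnS) (pow_mem (hS2R hn'2).1 j)
  let Q : H → Subgroup H := fun c => R ⊓ stabilizer H v ⊓ S.map (MulAut.conj c).toMonoidHom
  have hmap : ∀ c x : H, x ∈ S.map (MulAut.conj c).toMonoidHom ↔ c⁻¹ * x * c ∈ S := fun c x => by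
    rw [mem_map_equiv, MulAut.conj_symm_apply]
  have hQnorm : ∀ a ∈ R ⊓ stabilizer H v, ∀ c, a ∈ normalizer (Q c : Set H) := by
    intro a ha c
    rw [mem_normalizer_iff]
    intro y
    refine and_congr (mem_normalizer_iff.1 (le_normalizer ha) y) ?_
    show y ∈ S.map (MulAut.conj c).toMonoidHom ↔ a * y * a⁻¹ ∈ S.map (MulAut.conj c).toMonoidHom
    have ha' : c⁻¹ * a * c ∈ R := by simpa using hR.conj_mem a ha.1 c⁻¹
    rw [hmap, hmap, mem_normalizer_iff.1 (hSn ha') (c⁻¹ * y * c)]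
    simp [mul_assoc]
  have hQconj : ∀ h ∈ stabilizer H v, ∀ c y, y ∈ Q c ↔ h⁻¹ * y * h ∈ Q (h⁻¹ * c) := by
    intro h hh c y
    show (y ∈ R ∧ y ∈ stabilizer H v) ∧ y ∈ S.map (MulAut.conj c).toMonoidHom ↔
      (h⁻¹ * y * h ∈ R ∧ h⁻¹ * y * h ∈ stabilizer H v) ∧ h⁻¹ * y * h ∈ S.map (MulAut.conj (h⁻¹ * c)).toMonoidHom
    refine and_congr (and_congr ?_ ?_) ?_
    · exact ⟨fun hy => by simpa using hR.conj_mem y hy h⁻¹, fun hy => by
        simpa [mul_assoc] using hR.conj_mem _ hy h⟩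
    · rw [(stabilizer H v).mul_mem_cancel_right hh, (stabilizer H v).mul_mem_cancel_left (inv_mem hh)]
    · rw [hmap, hmap]
      simp [mul_assoc]
  set M : Subgroup H := R ⊓ ⨅ c, normalizer (Q c : Set H) with hM
  have hStabM : stabilizer H v ≤ normalizer (M : Set H) := by
    intro h hh
    refine Cfsg.Lib.ZStarApps.mem_normalizer_of_maps fun a ha => ?_
    refine ⟨hR.conj_mem a ha.1 h, Subgroup.mem_iInf.2 fun c => mem_normalizer_iff.2 fun y => ?_⟩
    rw [hQconj h hh c, hQconj h hh c, mem_normalizer_iff.1 (Subgroup.mem_iInf.1 ha.2 (h⁻¹ * c))]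
    simp [mul_assoc]
  have hsM : s ∈ M := ⟨hSR hsS, Subgroup.mem_iInf.2 fun c =>
    hQnorm s ⟨hSR hsS, mem_stabilizer_iff.2 hvs⟩ c⟩
  have hnM : n ∈ M := by
    refine ⟨hSR hnS, Subgroup.mem_iInf.2 fun c => ?_⟩
    rcases hconj c with hc | hc
    · have hgn : g ∈ normalizer (Q c : Set H) := hQnorm g ⟨hgR, mem_stabilizer_iff.2 hgv⟩ c
      have hn'n : n' ^ j ∈ normalizer (Q c : Set H) := by
        refine centralizer_le_normalizer _ (mem_centralizer_iff.2 fun y hy => ?_)
        have hyS : y ∈ S := hc ▸ hy.2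
        exact (hcomm y hyS _ (pow_mem hn'2 j)).eq
      have := mul_mem hgn (inv_mem hn'n)
      rwa [hg, mul_inv_cancel_right] at this
    · exact centralizer_le_normalizer _ (mem_centralizer_iff.2 fun y hy =>
        (mem_centralizer_iff.1 (hc hy.2).2 n hnS).symm)
  have hMnot : normalizer (M : Set H) = ⊤ :=
    hmax v hv0 _ hStabM n (le_normalizer hnM) hnv
  haveI : M.Normal := normalizer_eq_top_iff.1 hMnot
  have hMR : M = R := (hRmin M inferInstance inf_le_left).resolve_left fun h => by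
    rw [h, mem_bot] at hsM
    have h1 : s₀ = 1 := Subtype.ext hsM
    rw [h1, orderOf_one] at hs₀
    norm_num at hs₀
  have hQ1 : Q 1 = S := by
    refine hfam (Q 1) ?_ ?_ ?_
    · intro y hy
      simpa using (hmap 1 y).1 hy.2
    · intro h
      have hs1 : s ∈ Q 1 := ⟨⟨hSR hsS, mem_stabilizer_iff.2 hvs⟩, (hmap 1 s).2 (by simpa using hsS)⟩
      rw [h, mem_bot] at hs1
      have h1 : s₀ = 1 := Subtype.ext hs1
      rw [h1, orderOf_one] at hs₀
      norm_num at hs₀
    · intro a ha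
      rw [← hMR] at ha
      exact Subgroup.mem_iInf.1 ha.2 1
  have hn1 : n ∈ Q 1 := hQ1.symm ▸ hnS
  exact hnv (mem_stabilizer_iff.1 hn1.1.2)

end Cfsg.Lib.ExtremeAffine
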