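import Mathlib
import Cfsg.Agent.InvolCalc.ZStarApps
import Cfsg.Agent.S0205

/-!
A nonabelian finite simple group acting faithfully on an elementary abelian 2-group has an involution whose
fixed space is moved inside itself by some element of the group.
-/

set_option autoImplicit false
set_option linter.unusedSectionVars false

namespace Cfsg.Lib.ExtremeAffine

open Subgroup

universe u v

/-- A nonabelian simple group has even order. -/
theorem even_card_of_simple {T : Type u} [Group T] [Finite T] [IsSimpleGroup T] (hna : ¬ IsMulCommutative T) :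
    Even (Nat.card T) := by
  rw [← Nat.not_odd_iff_even]
  intro hodd
  exact hna (isMulCommutative_iff.2 (IsSimpleGroup.comm_iff_isSolvable.2 (Cfsg.Agent.S0205.result hodd)))

theorem center_eq_bot_of_simple {T : Type u} [Group T] [IsSimpleGroup T] (hna : ¬ IsMulCommutative T) :
    center T = ⊥ := by
  rcases IsSimpleGroup.eq_bot_or_eq_top_of_normal (center T) inferInstance with h | h
  · exact h
  · exact absurd (isMulCommutative_iff.2 fun a b => (mem_center_iff.1 (h ▸ mem_top a) b).symm) hna

/-- For two involutions either some involution commutes with both, or they are conjugate in the subgroup they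
generate. -/
theorem two_involutions {T : Type u} [Group T] [Finite T] {t z : T} (ht : orderOf t = 2) (hz : orderOf z = 2) :
    (∃ w : T, orderOf w = 2 ∧ Commute w t ∧ Commute w z) ∨
      (∃ j : ℕ, (t * z) ^ j * z * ((t * z) ^ j)⁻¹ = t) := by
  have ht2 : t * t = 1 := by rw [← pow_two, ← ht]; exact pow_orderOf_eq_one t
  have hz2 : z * z = 1 := by rw [← pow_two, ← hz]; exact pow_orderOf_eq_one z
  have hti : t⁻¹ = t := inv_eq_of_mul_eq_one_right ht2
  have hzi : z⁻¹ = z := inv_eq_of_mul_eq_one_right hz2
  have h1 : ∀ j : ℕ, z * (t * z) ^ j * z = ((t * z) ^ j)⁻¹ := fun j => by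
    conv_lhs => rw [← hzi, hzi]; arg 2; rw [← hzi]
    rw [← conj_pow, ← inv_pow]
    congr 1
    rw [hzi, mul_inv_rev, hti, hzi, mul_assoc, mul_assoc, hz2, mul_one]
  rcases Nat.even_or_odd (orderOf (t * z)) with ⟨j, hj⟩ | ⟨j, hj⟩
  · left
    have hk : 0 < orderOf (t * z) := orderOf_pos _
    have hj0 : j ≠ 0 := by omega
    refine ⟨(t * z) ^ j, ?_, ?_, ?_⟩
    · rw [orderOf_pow_of_dvd hj0 ⟨2, by omega⟩, hj, ← mul_two, Nat.mul_div_cancel_left _ (by omega)]
    all_goals
      have hinv : ((t * z) ^ j)⁻¹ = (t * z) ^ j := inv_eq_of_mul_eq_one_right (by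
        rw [← pow_add, ← hj, pow_orderOf_eq_one])
      have hcz : Commute ((t * z) ^ j) z := by
        have h := h1 j
        rw [hinv] at h
        show (t * z) ^ j * z = z * (t * z) ^ j
        conv_lhs => rw [← h]
        rw [mul_assoc, hz2, mul_one]
    · have h : Commute ((t * z) ^ j) (t * z) := (Commute.refl _).pow_left j
      have h' := h.mul_right hcz
      rwa [mul_assoc, hz2, mul_one] at h'
    · exact hcz
  · right
    refine ⟨j + 1, ?_⟩
    have h := h1 (j + 1)
    calc (t * z) ^ (j + 1) * z * ((t * z) ^ (j + 1))⁻¹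
        = (t * z) ^ (j + 1) * z * (z * (t * z) ^ (j + 1) * z) := by rw [h]
      _ = (t * z) ^ (j + 1) * (t * z) ^ (j + 1) * z := by
          generalize (t * z) ^ (j + 1) = A
          calc A * z * (z * A * z) = A * (z * z) * A * z := by simp only [mul_assoc]
            _ = A * A * z := by rw [hz2, mul_one]
      _ = t := by
          rw [← pow_add, show j + 1 + (j + 1) = orderOf (t * z) + 1 by omega, pow_succ, pow_orderOf_eq_one,
            one_mul, mul_assoc, hz2, mul_one]

variable {T : Type u} [Group T] [Finite T] {V : Type v} [AddCommGroup V] [DistribMulAction T V]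

/-- An element fixing all fixed points of the involution `z`. -/
def ptStab (T : Type u) [Group T] {V : Type v} [AddCommGroup V] [DistribMulAction T V] (z : T) : Subgroup T where
  carrier := {g | ∀ v : V, z • v = v → g • v = v}
  one_mem' := fun v _ => one_smul T v
  mul_mem' := fun {a b} ha hb v hv => by rw [mul_smul, hb v hv, ha v hv]
  inv_mem' := fun {a} ha v hv => by rw [inv_smul_eq_iff, ha v hv]

theorem exists_moving [IsSimpleGroup T] (hna : ¬ IsMulCommutative T)
    (hfaith : ∀ t : T, (∀ v : V, t • v = v) → t = 1) (h2 : ∀ v : V, v + v = 0) :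
    ∃ s : T, orderOf s = 2 ∧ ∃ n : T, (∀ v : V, s • v = v → s • n • v = n • v) ∧
      ∃ v : V, s • v = v ∧ n • v ≠ v := by
  classical
  by_contra hno
  have H0 : ∀ s : T, orderOf s = 2 → ∀ n : T, (∀ v : V, s • v = v → s • n • v = n • v) →
      ∀ v : V, s • v = v → n • v = v := by
    intro s hs n hn v hv
    by_contra hne
    exact hno ⟨s, hs, n, hn, v, hv, hne⟩
  -- commuting involutions have the same fixed points
  have hA : ∀ s t : T, orderOf s = 2 → Commute s t → ∀ v : V, s • v = v → t • v = v := fun s t hs hst =>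
    H0 s hs t fun v hv => by rw [← mul_smul, hst.eq, mul_smul, hv]
  obtain ⟨z, hz⟩ := exists_prime_orderOf_dvd_card' (G := T) 2 (even_card_of_simple hna).two_dvd
  set P : Subgroup T := ptStab T (V := V) z with hP
  have hmemP : ∀ g : T, g ∈ P ↔ ∀ v : V, z • v = v → g • v = v := fun g => Iff.rfl
  have hzP : z ∈ P := fun v hv => hv
  have hpres : ∀ g : T, (∀ v : V, z • v = v → z • g • v = g • v) → g ∈ P := fun g hg => H0 z hz g hg
  have sq : ∀ t : T, orderOf t = 2 → ∀ v : V, t • t • v = v := fun t ht v => by
    rw [← mul_smul, ← pow_two, ← ht, pow_orderOf_eq_one, one_smul]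
  -- involutions of `P` have the fixed points of `z`
  have hFt : ∀ t ∈ P, orderOf t = 2 → ∀ v : V, t • v = v → z • v = v := by
    intro t htP ht v hv
    rcases two_involutions ht hz with ⟨w, hw, hwt, hwz⟩ | ⟨j, hj⟩
    · exact hA w z hw hwz v (hA t w ht hwt.symm v hv)
    · set q := (t * z) ^ j with hq
      have hqP : q ∈ P := pow_mem (mul_mem htP hzP) j
      have h1 : z • q⁻¹ • v = q⁻¹ • v := by
        rw [← hj, mul_smul, mul_smul] at hv
        conv_rhs => rw [← hv, inv_smul_smul]
      have h2' := hqP _ h1
      rw [smul_inv_smul] at h2'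
      rwa [← h2'] at h1
  have hPcomm : ∀ s ∈ P, ∀ t ∈ P, orderOf s = 2 → orderOf t = 2 → s * t = t * s := by
    intro s hsP t htP hs ht
    refine mul_inv_eq_one.1 (hfaith _ fun v => ?_)
    have e1 : ∀ a ∈ P, orderOf a = 2 → ∀ b ∈ P, ∀ w : V, b • a • w = a • w + w + b • w := by
      intro a haP ha b hbP w
      have hfix : a • (a • w + w) = a • w + w := by rw [smul_add, sq a ha, add_comm]
      have hb := hbP _ (hFt a haP ha _ hfix)
      rw [smul_add] at hb
      have h3 : b • w + b • w = 0 := h2 _
      calc b • a • w = b • a • w + (b • w + b • w) := by rw [h3, add_zero]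
        _ = a • w + w + b • w := by rw [← add_assoc, hb]
    have key : ∀ w : V, s • t • w = t • s • w := fun w => by
      rw [e1 t htP ht s hsP, e1 s hsP hs t htP]; abel
    rw [mul_smul, mul_smul, key, ← mul_smul t s, smul_inv_smul]
  -- `P` is proper
  have hPtop : P ≠ ⊤ := by
    intro htop
    let I : Set T := {t | orderOf t = 2}
    haveI hC : (centralizer I).Normal := ⟨fun x hx g => by
      rw [mem_centralizer_iff] at hx ⊢
      intro i hi
      have hi' : g⁻¹ * i * g ∈ I := by
        show orderOf _ = 2
        rw [orderOf_eq_of_pow_and_pow_div_prime (n := 2) (by norm_num)]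
        · have := conj_pow (a := g⁻¹) (b := i) (i := 2)
          rw [inv_inv] at this
          rw [this, ← hi, pow_orderOf_eq_one, mul_one, inv_mul_cancel]
        · intro p hp hdvd
          rw [(Nat.prime_dvd_prime_iff_eq hp Nat.prime_two).1 hdvd]
          intro h
          norm_num at h
          have : i = 1 := by
            have h' := congrArg (fun a => g * a * g⁻¹) h
            simpa [mul_assoc] using h'
          rw [Set.mem_setOf_eq, this, orderOf_one] at hi
          norm_num at hi
      calc i * (g * x * g⁻¹) = g * ((g⁻¹ * i * g) * x) * g⁻¹ := by group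
        _ = g * (x * (g⁻¹ * i * g)) * g⁻¹ := by rw [hx _ hi']
        _ = g * x * g⁻¹ * i := by group⟩
    have hzC : z ∈ centralizer I := mem_centralizer_iff.2 fun i hi =>
      hPcomm i (htop ▸ mem_top i) z hzP hi hz
    rcases IsSimpleGroup.eq_bot_or_eq_top_of_normal (centralizer I) hC with e | e
    · rw [e, mem_bot] at hzC
      rw [hzC, orderOf_one] at hz
      norm_num at hz
    · have : z ∈ center T := mem_center_iff.2 fun g =>
        (mem_centralizer_iff.1 (e ▸ mem_top g) z hz).symm
      rw [center_eq_bot_of_simple hna, mem_bot] at this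
      rw [this, orderOf_one] at hz
      norm_num at hz
  -- fixed points of a nontrivial element of odd order in `P`
  have hFy : ∀ y ∈ P, y ≠ 1 → Odd (orderOf y) → ∀ v : V, y • v = v → z • v = v := by
    intro y hyP hy1 hodd v hv
    have hfix : ∀ w : V, z • (z • w + w) = z • w + w := fun w => by rw [smul_add, sq z hz, add_comm]
    have hyz : y * z ≠ z * y := by
      intro hc
      refine hy1 (hfaith y ?_)
      have hsq : ∀ w : V, (y ^ 2) • w = w := by
        intro w
        have h1 := hyP _ (hfix w)
        rw [smul_add, ← mul_smul, hc, mul_smul] at h1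
        have h3 : z • (y • w + w) = y • w + w := by
          rw [smul_add]
          calc z • y • w + z • w = (z • y • w + y • w) + (y • w + z • w) := by
                have := h2 (y • w)
                rw [add_assoc, ← add_assoc (y • w), this, zero_add]
            _ = (z • w + w) + (y • w + z • w) := by rw [h1]
            _ = (z • w + z • w) + (y • w + w) := by abel
            _ = y • w + w := by rw [h2, zero_add]
        have h4 := hyP _ h3
        rw [smul_add, add_comm (y • w) w] at h4
        rw [pow_two, mul_smul]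
        exact add_right_cancel h4
      intro w
      obtain ⟨k, hk⟩ := hodd
      have hfixk : (y ^ (2 * k)) • w = w := by
        rw [pow_mul]
        exact (MulAction.mem_stabilizer_iff (G := T)).1 (pow_mem (MulAction.mem_stabilizer_iff.2 (hsq w)) k)
      calc y • w = y • (y ^ (2 * k)) • w := by rw [hfixk]
        _ = w := by rw [← mul_smul, ← pow_succ', ← hk, pow_orderOf_eq_one, one_smul]
    set z' := y * z * y⁻¹ with hz'
    have hz'o : orderOf z' = 2 := by
      rw [hz', ← hz]
      exact (MulAut.conj y).orderOf_eq z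
    have hz'P : z' ∈ P := mul_mem (mul_mem hyP hzP) (inv_mem hyP)
    have hcomm : Commute z z' := hPcomm z hzP z' hz'P hz hz'o
    have hne : z * z' ≠ 1 := by
      intro h
      refine hyz ?_
      have hz1 : z' = z⁻¹ := eq_inv_of_mul_eq_one_right h
      have hzi : z⁻¹ = z := inv_eq_of_mul_eq_one_right (by rw [← pow_two, ← hz, pow_orderOf_eq_one])
      rw [hzi, hz', mul_inv_eq_iff_eq_mul] at hz1
      exact hz1
    have hto : orderOf (z * z') = 2 := orderOf_eq_prime (by
      rw [hcomm.mul_pow, ← hz, pow_orderOf_eq_one, hz, ← hz'o, pow_orderOf_eq_one, one_mul]) hne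
    refine hFt (z * z') (mul_mem hzP hz'P) hto v ?_
    have h1 := hyP _ (hfix v)
    rw [smul_add, hv, add_left_inj] at h1
    rw [mul_smul, hz', mul_smul, mul_smul, show y⁻¹ • v = v from inv_smul_eq_iff.2 hv.symm, h1, sq z hz]
  -- an involution outside `P` inverts only the identity of `P`
  have hinv : ∀ u : T, orderOf u = 2 → u ∉ P → ∀ y ∈ P, u * y * u⁻¹ = y⁻¹ → y = 1 := by
    intro u hu huP y hyP hconj
    by_contra hy1
    rcases Nat.even_or_odd (orderOf y) with ⟨j, hj⟩ | hodd
    · have hy0 : 0 < orderOf y := orderOf_pos y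
      set w := y ^ j with hw
      have hwo : orderOf w = 2 := by
        rw [orderOf_pow_of_dvd (by omega) ⟨2, by omega⟩, hj, ← mul_two, Nat.mul_div_cancel_left _ (by omega)]
      have hwP : w ∈ P := pow_mem hyP j
      have hwi : w⁻¹ = w := inv_eq_of_mul_eq_one_right (by rw [← pow_two, ← hwo, pow_orderOf_eq_one])
      have hcw : Commute w u := by
        have : u * w * u⁻¹ = w := by
          rw [hw, ← conj_pow, hconj, inv_pow, ← hw, hwi]
        exact (mul_inv_eq_iff_eq_mul.1 this).symm
      exact huP fun v hv => hA w u hwo hcw v (hwP v hv)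
    · refine huP (hpres u fun v hv => hFy y hyP hy1 hodd _ ?_)
      have h1 : y * u = u * y⁻¹ := by
        have h' := congrArg (·⁻¹) hconj
        simp only [mul_inv_rev, inv_inv] at h'
        calc y * u = u * (y⁻¹ * u⁻¹) * u := by rw [h']
          _ = u * y⁻¹ := by group
      rw [← mul_smul, h1, mul_smul, inv_mem hyP v hv]
  -- counting involutions
  haveI := Fintype.ofFinite T
  let J := {w : T // orderOf w = 2 ∧ w ∈ P}
  let K := {u : T // orderOf u = 2}
  have hlow : Nat.card ((T ⧸ P) × J) ≤ Nat.card K := by
    refine Nat.card_le_card_of_injective (fun x => ⟨x.1.out * x.2.1 * (x.1.out)⁻¹, ((MulAut.conj x.1.out).orderOf_eq x.2.1).trans x.2.2.1⟩) ?_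
    rintro ⟨c, w⟩ ⟨c', w'⟩ h
    have hval : c.out * w.1 * (c.out)⁻¹ = c'.out * w'.1 * (c'.out)⁻¹ := congrArg Subtype.val h
    have hcc : c = c' := by
      rw [← QuotientGroup.out_eq' c, ← QuotientGroup.out_eq' c', QuotientGroup.eq]
      refine hpres _ fun v hv => ?_
      have hw : w.1 * ((c.out)⁻¹ * c'.out) = ((c.out)⁻¹ * c'.out) * w'.1 := by
        calc w.1 * ((c.out)⁻¹ * c'.out) = (c.out)⁻¹ * (c.out * w.1 * (c.out)⁻¹) * c'.out := by group
          _ = _ := by rw [hval]; group
      refine hFt w.1 w.2.2 w.2.1 _ ?_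
      rw [← mul_smul, hw, mul_smul, w'.2.2 v hv]
    subst hcc
    exact Prod.ext rfl (Subtype.ext (mul_left_cancel (mul_right_cancel hval)))
  have hhigh : Nat.card K ≤ Nat.card (J ⊕ {c : T ⧸ P // c ≠ QuotientGroup.mk 1}) := by
    refine Nat.card_le_card_of_injective (fun u => if hu : u.1 ∈ P then Sum.inl ⟨u.1, u.2, hu⟩
      else Sum.inr ⟨QuotientGroup.mk u.1, fun h => hu (by
        have h' := QuotientGroup.eq.1 h
        simpa using h')⟩) ?_
    rintro ⟨u, hu⟩ ⟨u', hu'⟩ h
    simp only at h
    split_ifs at h with h1 h2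
    · injection h with h'
      injection h' with h''
      exact Subtype.ext h''
    · have hcos : u⁻¹ * u' ∈ P := QuotientGroup.eq.1 (congrArg Subtype.val (Sum.inr.inj h))
      have hui : u⁻¹ = u := inv_eq_of_mul_eq_one_right (by rw [← pow_two, ← hu, pow_orderOf_eq_one])
      have hui' : u'⁻¹ = u' := inv_eq_of_mul_eq_one_right (by rw [← pow_two, ← hu', pow_orderOf_eq_one])
      have : u⁻¹ * u' = 1 := hinv u hu h1 _ hcos (by
        rw [mul_inv_cancel_left, mul_inv_rev, inv_inv, hui', hui])
      exact Subtype.ext (inv_mul_eq_one.1 this)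
  have hm : ∀ t ∈ P, orderOf t = 2 → t = z := by
    intro t htP ht
    by_contra hne
    have hJ : 2 ≤ Nat.card J := by
      have hinj : Function.Injective (fun b : Bool => bif b then (⟨t, ht, htP⟩ : J) else ⟨z, hz, hzP⟩) := by
        intro a b hab
        cases a <;> cases b <;> first
          | rfl
          | exact absurd (congrArg Subtype.val hab) hne
          | exact absurd (congrArg Subtype.val hab).symm hne
      simpa using Nat.card_le_card_of_injective _ hinj
    have hk : 2 ≤ Nat.card (T ⧸ P) := Subgroup.one_lt_index_of_ne_top hPtop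
    have hsum : Nat.card (J ⊕ {c : T ⧸ P // c ≠ QuotientGroup.mk 1}) + 1 = Nat.card J + Nat.card (T ⧸ P) := by
      rw [Nat.card_sum, add_assoc, ← Finite.card_option]
      exact congrArg _ (Nat.card_congr (Equiv.optionSubtypeNe _))
    rw [Nat.card_prod] at hlow
    nlinarith
  -- so `z` is isolated
  have hiso : Cfsg.IsIsolatedInvolution z := by
    refine ⟨hz, fun g hg => hm _ (fun v hv => hA z _ hz hg v hv) ?_⟩
    rw [← hz]
    exact (MulAut.conj g).orderOf_eq z
  have hcore : Cfsg.pPrimeCore 2 T = ⊥ := by
    haveI : (Cfsg.pPrimeCore 2 T).Normal := sSup_normal _ fun N hN => hN.1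
    rcases IsSimpleGroup.eq_bot_or_eq_top_of_normal (Cfsg.pPrimeCore 2 T) inferInstance with e | e
    · exact e
    · have hodd := Cfsg.Lib.ZStarApps.odd_card_pPrimeCore (G := T)
      rw [e, Subgroup.card_top] at hodd
      exact absurd (even_card_of_simple hna) (Nat.not_even_iff_odd.2 hodd)
  have hzc : z ∈ center T := mem_center_iff.2 fun g => by
    have h := Cfsg.Lib.ZStarApps.zstarProp hiso g
    rw [hcore, mem_bot] at h
    rw [mul_inv_eq_one, mul_inv_eq_iff_eq_mul] at h
    exact h.symm
  rw [center_eq_bot_of_simple hna, mem_bot] at hzc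
  rw [hzc, orderOf_one] at hz
  norm_num at hz

end Cfsg.Lib.ExtremeAffine
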