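import Cfsg.Agent.ExtremeAffine.Factor

/-!
Insoluble linear groups over the field of two elements with maximal vector stabilisers are almost simple.
-/

set_option autoImplicit false
set_option linter.unusedSectionVars false

namespace Cfsg.Lib.ExtremeAffine

open Subgroup MulAction

universe u v

variable {H : Type u} [Group H] [Finite H] {V : Type v} [AddCommGroup V] [DistribMulAction H V] [Finite V]

/-- An element of order two fixes a nonzero vector. -/
theorem exists_fixed_of_involution [Nontrivial V] (h2 : ∀ v : V, v + v = 0) {x : H} (hx : orderOf x = 2) :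
    ∃ v : V, v ≠ 0 ∧ x • v = v := by
  obtain ⟨v, hv⟩ := exists_ne (0 : V)
  by_cases h : x • v = v
  · exact ⟨v, hv, h⟩
  · refine ⟨x • v + v, fun h0 => h ?_, ?_⟩
    · calc x • v = x • v + (v + v) := by rw [h2, add_zero]
        _ = v := by rw [← add_assoc, h0, zero_add]
    · rw [smul_add, ← mul_smul, ← pow_two, ← hx, pow_orderOf_eq_one, one_smul, add_comm]

theorem almost_simple (hfaith : ∀ h : H, (∀ v : V, h • v = v) → h = 1) (h2 : ∀ v : V, v + v = 0)
    (irr : ∀ X : AddSubgroup V, (∀ h : H, ∀ x ∈ X, h • x ∈ X) → X = ⊥ ∨ X = ⊤)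
    (hmax : ∀ v : V, v ≠ 0 → ∀ X : Subgroup H, stabilizer H v ≤ X → ∀ x ∈ X, x • v ≠ v → X = ⊤)
    (hns : ¬ Group.IsSolvable H) :
    ∃ T : Subgroup H, T.Normal ∧ IsSimpleGroup T ∧ ¬ IsMulCommutative T ∧ centralizer (T : Set H) = ⊥ := by
  classical
  haveI : Nontrivial H := by
    by_contra h
    rw [not_nontrivial_iff_subsingleton] at h
    exact hns inferInstance
  haveI : Nontrivial V := by
    by_contra h
    rw [not_nontrivial_iff_subsingleton] at h
    obtain ⟨h', hne⟩ := exists_ne (1 : H)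
    exact hne (hfaith h' fun v => Subsingleton.elim _ _)
  have nfix : ∀ K : Subgroup H, K.Normal → ∀ v : V, v ≠ 0 → K ≤ stabilizer H v → K = ⊥ := by
    intro K hK v hv hKv
    let F : AddSubgroup V :=
      { carrier := {y | ∀ k ∈ K, k • y = y}
        zero_mem' := fun k _ => smul_zero k
        add_mem' := fun ha hb k hk => by rw [smul_add, ha k hk, hb k hk]
        neg_mem' := fun ha k hk => by rw [smul_neg, ha k hk] }
    have hvF : v ∈ F := fun k hk => mem_stabilizer_iff.1 (hKv hk)
    rcases irr F (fun h y hy k hk => by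
      have h1 := hy _ (hK.conj_mem k hk h⁻¹)
      rw [inv_inv, mul_smul, mul_smul, inv_smul_eq_iff] at h1
      exact h1) with e | e
    · rw [e, AddSubgroup.mem_bot] at hvF
      exact absurd hvF hv
    · rw [eq_bot_iff]
      intro k hk
      exact Subgroup.mem_bot.2 (hfaith k fun y => (e.symm ▸ AddSubgroup.mem_top y : y ∈ F) k hk)
  have htop : ∀ K : Subgroup H, K.Normal → K ≠ ⊥ → ∀ v : V, v ≠ 0 → K ⊔ stabilizer H v = ⊤ := by
    intro K hK hK0 v hv
    obtain ⟨k, hk, hkv⟩ := SetLike.not_le_iff_exists.1 fun h => hK0 (nfix K hK v hv h)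
    exact hmax v hv _ le_sup_right k (mem_sup_left hk) hkv
  obtain ⟨R, hRmin⟩ := (Set.toFinite {K : Subgroup H | K.Normal ∧ K ≠ ⊥}).exists_minimal
    ⟨⊤, inferInstance, top_ne_bot⟩
  obtain ⟨hR, hR0⟩ := hRmin.prop
  haveI := hR
  have hmin : ∀ K : Subgroup H, K.Normal → K ≤ R → K = ⊥ ∨ K = R := fun K hK hle =>
    or_iff_not_imp_left.2 fun h0 => le_antisymm hle (hRmin.le_of_le ⟨hK, h0⟩ hle)
  -- a subgroup of `stabilizer H v` normalised by it and by a normal subgroup is trivial
  have hkill : ∀ K : Subgroup H, K.Normal → K ≠ ⊥ → ∀ v : V, v ≠ 0 → ∀ L : Subgroup H,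
      L ≤ stabilizer H v → K ≤ normalizer (L : Set H) → stabilizer H v ≤ normalizer (L : Set H) → L = ⊥ := by
    intro K hK hK0 v hv L hLv hKL hvL
    have : L.Normal := normalizer_eq_top_iff.1
      (top_unique ((htop K hK hK0 v hv).ge.trans (sup_le hKL hvL)))
    exact nfix L this v hv hLv
  have hinfn : ∀ N : Subgroup H, N.Normal → ∀ L : Subgroup H, L ≤ normalizer ((N ⊓ L : Subgroup H) : Set H) :=
    fun N hN L a ha => mem_normalizer_iff.2 fun y => and_congr
      (mem_normalizer_iff.1 (by rw [normalizer_eq_top_iff.2 hN]; exact Subgroup.mem_top a) y)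
      (mem_normalizer_iff.1 (le_normalizer ha) y)
  have hcentinf : ∀ N M L : Subgroup H, M ≤ centralizer (N : Set H) → M ≤ normalizer ((N ⊓ L : Subgroup H) : Set H) :=
    fun N M L hM => fun a ha => centralizer_le_normalizer _ (centralizer_le
      (show ((N ⊓ L : Subgroup H) : Set H) ⊆ (N : Set H) from fun y hy => hy.1) (hM ha))
  have hRinvol : ∀ x ∈ R, orderOf x = 2 → (∀ v : V, v ≠ 0 → R ⊓ stabilizer H v = ⊥) → False := by
    intro x hx ho hfpf
    obtain ⟨v, hv, hxv⟩ := exists_fixed_of_involution (V := V) h2 ho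
    have : x ∈ R ⊓ stabilizer H v := ⟨hx, mem_stabilizer_iff.2 hxv⟩
    rw [hfpf v hv, mem_bot] at this
    rw [this, orderOf_one] at ho
    norm_num at ho
  by_cases hab : IsMulCommutative R
  · exfalso
    have hle : R ≤ centralizer (R : Set H) := fun a ha => mem_centralizer_iff.2 fun b hb =>
      congrArg Subtype.val (hab.is_comm.comm (⟨b, hb⟩ : R) ⟨a, ha⟩)
    have hfpf : ∀ v : V, v ≠ 0 → R ⊓ stabilizer H v = ⊥ := fun v hv =>
      hkill R hR hR0 v hv _ inf_le_right (hcentinf R R _ hle) (hinfn R hR _)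
    have hCR : centralizer (R : Set H) = R := by
      refine le_antisymm (fun c hc => ?_) hle
      obtain ⟨v, hv⟩ := exists_ne (0 : V)
      have hcfpf : centralizer (R : Set H) ⊓ stabilizer H v = ⊥ :=
        hkill R hR hR0 v hv _ inf_le_right (hcentinf _ _ _ (le_centralizer_iff.1 le_rfl)) (hinfn _ inferInstance _)
      have h' : c ∈ ((R ⊔ stabilizer H v : Subgroup H) : Set H) := by rw [htop R hR hR0 v hv]; trivial
      rw [Subgroup.normal_mul] at h'
      obtain ⟨a, ha, b, hb, rfl⟩ := Set.mem_mul.1 h'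
      have hb' : b ∈ centralizer (R : Set H) ⊓ stabilizer H v :=
        ⟨(mul_mem_cancel_left (hle ha)).1 hc, hb⟩
      rw [hcfpf, mem_bot] at hb'
      rw [hb', mul_one]
      exact ha
    -- prime exponent
    obtain ⟨r, hr, hrd⟩ := Nat.exists_prime_and_dvd (fun h => hR0 (R.eq_bot_of_card_eq h))
    haveI := Fact.mk hr
    obtain ⟨x₀, hx₀⟩ := exists_prime_orderOf_dvd_card' r hrd
    let W : Subgroup H :=
      { carrier := {y | y ∈ R ∧ y ^ r = 1}
        one_mem' := ⟨one_mem _, one_pow _⟩
        mul_mem' := fun {a b} ha hb => ⟨mul_mem ha.1 hb.1, by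
          rw [Commute.mul_pow (mem_centralizer_iff.1 (hle hb.1) a ha.1), ha.2, hb.2, one_mul]⟩
        inv_mem' := fun {a} ha => ⟨inv_mem ha.1, by rw [inv_pow, ha.2, inv_one]⟩ }
    have hW : W.Normal := ⟨fun y hy g => ⟨hR.conj_mem y hy.1 g, by rw [conj_pow, hy.2, mul_one, mul_inv_cancel]⟩⟩
    set x : H := (x₀ : H) with hxdef
    have hxo : orderOf x = r := by rw [hxdef, Subgroup.orderOf_coe]; exact hx₀
    have hxR : x ∈ R := x₀.2
    have hx1 : x ≠ 1 := fun h => hr.ne_one (by rw [← hxo, h, orderOf_one])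
    have hWR : W = R := (hmin W hW fun y hy => hy.1).resolve_left fun h => by
      have : x ∈ W := ⟨hxR, by rw [← hxo, pow_orderOf_eq_one]⟩
      rw [h, mem_bot] at this
      exact hx1 this
    have hpow : ∀ y ∈ R, y ^ r = 1 := fun y hy => (hWR.ge hy).2
    have hodd : Odd r := hr.odd_of_ne_two fun h => hRinvol x hxR (h ▸ hxo) hfpf
    -- cyclic
    have hcyc : ∀ y ∈ R, y ∈ zpowers x := by
      intro y hy
      by_contra hyx
      obtain ⟨v, hv⟩ := exists_ne (0 : V)
      refine hv ?_
      have hzero : ∀ a ∈ R, a ≠ 1 → ∀ w : V, ∑ i ∈ Finset.range r, a ^ i • w = 0 := by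
        intro a ha ha1 w
        by_contra hne
        have : a ∈ R ⊓ stabilizer H (∑ i ∈ Finset.range r, a ^ i • w) :=
          ⟨ha, mem_stabilizer_iff.2 (smul_orbit_sum (by rw [hpow a ha, one_smul]))⟩
        rw [hfpf _ hne, mem_bot] at this
        exact ha1 this
      have hxy : ∀ j < r, x * y ^ j ≠ 1 := by
        intro j hj h
        rcases Nat.eq_zero_or_pos j with rfl | hj0
        · rw [pow_zero, mul_one] at h
          exact hx1 h
        · refine hyx (mem_of_pow_coprime (i := j) (r := r) ?_ ?_ ?_)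
          · exact ((hr.coprime_iff_not_dvd).2 fun hdvd => hj0.ne'
              (Nat.eq_zero_of_dvd_of_lt hdvd hj)).symm
          · rw [eq_inv_of_mul_eq_one_right h]
            exact inv_mem (mem_zpowers x)
          · rw [hpow y hy]
            exact one_mem _
      have hy1 : ∀ i ∈ Finset.range r, i ≠ 0 → y ^ i ≠ 1 := by
        intro i hi hi0 h
        refine hyx (mem_of_pow_coprime (i := i) (r := r) ?_ ?_ ?_)
        · exact ((hr.coprime_iff_not_dvd).2 fun hdvd => hi0
            (Nat.eq_zero_of_dvd_of_lt hdvd (Finset.mem_range.1 hi))).symm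
        · rw [h]; exact one_mem _
        · rw [hpow y hy]; exact one_mem _
      have htot : ∑ j ∈ Finset.range r, ∑ i ∈ Finset.range r, (x * y ^ j) ^ i • v = 0 :=
        Finset.sum_eq_zero fun j hj =>
          hzero _ (mul_mem hxR (pow_mem hy j)) (hxy j (Finset.mem_range.1 hj)) v
      have hsw : ∀ j i : ℕ, (x * y ^ j) ^ i • v = x ^ i • (y ^ i) ^ j • v := fun j i => by
        rw [(show Commute x (y ^ j) from mem_centralizer_iff.1 (hle (pow_mem hy j)) x hxR).mul_pow, mul_smul,
          ← pow_mul, ← pow_mul, mul_comm j i]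
      simp only [hsw] at htot
      rw [Finset.sum_comm] at htot
      simp only [← Finset.smul_sum] at htot
      rw [Finset.sum_eq_single 0] at htot
      · simp only [pow_zero, one_pow, one_smul, Finset.sum_const, Finset.card_range] at htot
        rwa [odd_nsmul h2 hodd v] at htot
      · intro i hi hi0
        rw [hzero _ (pow_mem hy i) (hy1 i hi hi0) v, smul_zero]
      · exact fun h => absurd (Finset.mem_range.2 hr.pos) h
    haveI : IsCyclic R := ⟨⟨x₀, fun a => by
      obtain ⟨k, hk⟩ := mem_zpowers_iff.1 (hcyc a a.2)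
      exact ⟨k, Subtype.ext (by simpa using hk)⟩⟩⟩
    let φ : H →* MulAut R := MulAut.conjNormal
    letI : CommGroup (MulAut R) :=
      { (inferInstance : Group (MulAut R)) with
        mul_comm := fun a b => (IsCyclic.mulAutMulEquiv R).injective (by rw [map_mul, map_mul, mul_comm]) }
    haveI : Group.IsSolvable (MulAut R) := inferInstance
    haveI : Group.IsSolvable R := Group.isSolvable_of_comm fun a b => hab.is_comm.comm a b
    refine hns (Group.isSolvable_of_ker_le_range R.subtype φ fun c hc => ?_)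
    rw [Subgroup.range_subtype, ← hCR]
    refine mem_centralizer_iff.2 fun a ha => ?_
    have h1 := congrArg (fun f : MulAut R => (f ⟨a, ha⟩ : H)) (MonoidHom.mem_ker.1 hc)
    simp only [φ, MulAut.conjNormal_apply, MulAut.one_apply] at h1
    exact (mul_inv_eq_iff_eq_mul.1 h1).symm
  · obtain ⟨S, hSR, hS, hna, hSn, hZ, hsup, hfam, hconj, hgen⟩ :=
      Cfsg.Lib.PrimTypes.exists_simple_factor hR hR0 hmin hab
    haveI := hS
    have hC : centralizer (R : Set H) = ⊥ := by
      by_contra hC
      have hfpf : ∀ v : V, v ≠ 0 → R ⊓ stabilizer H v = ⊥ := fun v hv =>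
        hkill _ inferInstance hC v hv _ inf_le_right (hcentinf R _ _ le_rfl) (hinfn R hR _)
      obtain ⟨x, hx⟩ := exists_prime_orderOf_dvd_card' (G := S) 2 (even_card_of_simple hna).two_dvd
      exact hRinvol x (hSR x.2) (by rw [Subgroup.orderOf_coe]; exact hx) hfpf
    by_cases hSR' : S = R
    · exact ⟨R, hR, hSR' ▸ hS, hab, hC⟩
    · exfalso
      obtain ⟨h0, hne⟩ : ∃ h0 : H, S.map (MulAut.conj h0).toMonoidHom ≠ S := by
        by_contra hall
        push Not at hall
        exact hSR' (le_antisymm hSR (hgen.le.trans (iSup_le fun g => (hall g).le)))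
      exact false_of_factor hfaith h2 irr hmax hR hmin (htop R hR hR0) hSR hS hna hSn hsup hfam hconj hne

end Cfsg.Lib.ExtremeAffine
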